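import Mathlib

/-! # Bounding the automorphism group of a finite graph by a refinement certificate -/

namespace CfsgLib.CommutingGraph

/-- Numbers of points sharing the colours of `v` seen from `ks`. -/
def classSize (n : ℕ) (col : ℕ → ℕ → ℕ) (v : ℕ) (ks : List ℕ) : ℕ :=
  ((List.range n).filter fun w => ks.all fun k => col k w == col k v).length

/-- A certificate: points `v`, a bound on the class of `v` seen from witnesses `ks` found earlier. -/
def checkSteps (n : ℕ) (col : ℕ → ℕ → ℕ) : List (ℕ × ℕ × List ℕ) → List ℕ → Bool
  | [], found => (List.range n).all fun v => found.contains v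
  | (v, b, ks) :: rest, found => decide (v < n) && ks.all (fun k => found.contains k && decide (k < n)) &&
      decide (classSize n col v ks ≤ b) && checkSteps n col rest (v :: found)

theorem card_le_of_checkSteps {n : ℕ} (col : ℕ → ℕ → ℕ) :
    ∀ (steps : List (ℕ × ℕ × List ℕ)) (found : List ℕ) (S : Subgroup (Equiv.Perm (Fin n))),
      checkSteps n col steps found = true →
      (∀ σ ∈ S, ∀ i j : Fin n, col (σ i) (σ j) = col i j) →
      (∀ σ ∈ S, ∀ i : Fin n, (i : ℕ) ∈ found → σ i = i) →
      Nat.card S ≤ (steps.map fun s => s.2.1).prod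
  | [], found, S, h, _, hfix => by
    simp only [checkSteps, List.all_eq_true, List.mem_range, List.contains_iff_mem] at h
    have : S = ⊥ := (Subgroup.eq_bot_iff_forall S).mpr fun σ hσ =>
      Equiv.ext fun i => hfix σ hσ i (h i i.2)
    simp [this]
  | (v, b, ks) :: rest, found, S, h, hcol, hfix => by
    simp only [checkSteps, Bool.and_eq_true, decide_eq_true_eq, List.all_eq_true,
      List.contains_iff_mem] at h
    obtain ⟨⟨⟨hv, hks⟩, hb⟩, hrest⟩ := h
    let i : Fin n := ⟨v, hv⟩
    have ih := card_le_of_checkSteps col rest (v :: found)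
      ((MulAction.stabilizer S i).map S.subtype) hrest
      (fun σ hσ => hcol σ (Subgroup.map_subtype_le _ hσ))
      (fun σ hσ j hj => by
        obtain ⟨τ, hτ, rfl⟩ := hσ
        rcases List.mem_cons.mp hj with hj | hj
        · rw [show j = i from Fin.ext hj]; exact hτ
        · exact hfix _ τ.2 j hj)
    rw [← Nat.card_congr ((MulAction.stabilizer S i).equivMapOfInjective _
      S.subtype_injective).toEquiv] at ih
    have horb : Nat.card (MulAction.orbit S i) ≤ b := by
      refine le_trans ?_ hb
      let good := (List.range n).filter fun w => ks.all fun k => col k w == col k v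
      have hmem : ∀ x : MulAction.orbit S i, ((x : Fin n) : ℕ) ∈ good := by
        rintro ⟨x, σ, rfl⟩
        simp only [good, List.mem_filter, List.mem_range, List.all_eq_true, beq_iff_eq]
        refine ⟨Fin.is_lt _, fun k hk => ?_⟩
        have h1 := hcol _ σ.2 ⟨k, (hks k hk).2⟩ i
        rw [hfix _ σ.2 ⟨k, (hks k hk).2⟩ (hks k hk).1] at h1
        exact h1
      rw [classSize, ← List.toFinset_card_of_nodup (List.nodup_range.filter _)]
      calc Nat.card (MulAction.orbit S i)
          ≤ Nat.card {w // w ∈ good.toFinset} :=
            Nat.card_le_card_of_injective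
              (fun x => ⟨((x : Fin n) : ℕ), List.mem_toFinset.mpr (hmem x)⟩)
              (fun x y hxy => Subtype.ext (Fin.ext (congrArg Subtype.val hxy)))
        _ = _ := by rw [Nat.card_eq_fintype_card, Fintype.card_coe]
    rw [List.map_cons, List.prod_cons, ← Subgroup.card_mul_index (MulAction.stabilizer S i),
      MulAction.index_stabilizer, ← Nat.card_coe_set_eq, mul_comm]
    exact Nat.mul_le_mul horb ih

end CfsgLib.CommutingGraph
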