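import Mathlib

/-! # Recognising a group from its commuting graph

If a finite group `L` has a set `t` of elements, singled out by the order of their centralisers,
whose commuting graph has at most `2 * |L|` automorphisms, and `L` is generated by squares, then a
group with the same commuting graph as `L` is isomorphic to `L`.
-/

namespace CfsgLib.CommutingGraph

variable {L H : Type*} [Group L] [Group H]

open Classical in
/-- A bijection of nonidentity elements, extended by `1 ↦ 1`. -/
noncomputable def extend (f : {h : H // h ≠ 1} ≃ {g : L // g ≠ 1}) : H ≃ L :=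
  (Equiv.optionSubtypeNe (1 : H)).symm.trans (f.optionCongr.trans (Equiv.optionSubtypeNe (1 : L)))

lemma extend_apply_of_ne (f : {h : H // h ≠ 1} ≃ {g : L // g ≠ 1}) {x : H} (hx : x ≠ 1) :
    extend f x = f ⟨x, hx⟩ := by
  classical
  simp [extend, Equiv.optionSubtypeNe_symm_of_ne hx]

lemma extend_one (f : {h : H // h ≠ 1} ≃ {g : L // g ≠ 1}) : extend f 1 = 1 := by
  classical
  simp [extend]

lemma commute_extend (f : {h : H // h ≠ 1} ≃ {g : L // g ≠ 1})
    (hf : ∀ x y : {h : H // h ≠ 1}, (x : H) * y = y * x ↔ ((f x) : L) * (f y) = (f y) * (f x))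
    (x y : H) : Commute (extend f x) (extend f y) ↔ Commute x y := by
  by_cases hx : x = 1
  · subst hx; simp [extend_one]
  by_cases hy : y = 1
  · subst hy; simp [extend_one]
  rw [extend_apply_of_ne f hx, extend_apply_of_ne f hy]
  exact (hf ⟨x, hx⟩ ⟨y, hy⟩).symm

lemma card_centralizer_eq {F : H ≃ L} (hF : ∀ x y, Commute (F x) (F y) ↔ Commute x y) (x : H) :
    Nat.card (Subgroup.centralizer {F x}) = Nat.card (Subgroup.centralizer {x}) :=
  Nat.card_congr (F.subtypeEquiv fun y => by
    simp only [Subgroup.mem_centralizer_singleton_iff]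
    exact (hF y x).symm).symm

/-- conjugation preserves centraliser orders -/
lemma card_centralizer_conj (g x : L) :
    Nat.card (Subgroup.centralizer {g * x * g⁻¹}) = Nat.card (Subgroup.centralizer {x}) :=
  (card_centralizer_eq (F := (MulAut.conj g).toEquiv)
    (fun a b => by
      show Commute (g * a * g⁻¹) (g * b * g⁻¹) ↔ Commute a b
      exact Commute.conj_iff g) x)

variable {n : ℕ}

/-- The automorphisms of the commuting graph on a family of elements. -/
def autGraph (t : Fin n → L) : Subgroup (Equiv.Perm (Fin n)) where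
  carrier := {σ | ∀ i j, Commute (t (σ i)) (t (σ j)) ↔ Commute (t i) (t j)}
  one_mem' := fun _ _ => Iff.rfl
  mul_mem' := fun {a b} ha hb i j => (ha (b i) (b j)).trans (hb i j)
  inv_mem' := fun {a} ha i j => by
    have := ha (a⁻¹ i) (a⁻¹ j)
    simp only [Equiv.Perm.coe_inv, Equiv.apply_symm_apply] at this
    exact this.symm

/-- The homomorphism to the graph automorphisms given by conjugation, for a group `H` with a
family `s` of elements whose range is invariant and which has the commuting graph of `t`. -/
theorem exists_conj_hom (t : Fin n → L) (s : Fin n → H) (hs : Function.Injective s)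
    (hinv : ∀ h i, h * s i * h⁻¹ ∈ Set.range s)
    (hst : ∀ i j, Commute (t i) (t j) ↔ Commute (s i) (s j))
    (htriv : ∀ h, (∀ i, Commute h (s i)) → h = 1) :
    ∃ ρ : H →* Equiv.Perm (Fin n), Function.Injective ρ ∧ ρ.range ≤ autGraph t := by
  choose π hπ using hinv
  let ρ : H →* Equiv.Perm (Fin n) :=
    MonoidHom.mk' (fun h =>
      { toFun := π h
        invFun := π h⁻¹
        left_inv := fun i => hs (by rw [hπ, hπ]; group)
        right_inv := fun i => hs (by rw [hπ, hπ]; group) })
      fun a b => Equiv.ext fun i => hs (by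
        show s (π (a * b) i) = s (π a (π b i))
        rw [hπ, hπ, hπ]; group)
  refine ⟨ρ, (injective_iff_map_eq_one ρ).mpr fun h hh => htriv h fun i => ?_, ?_⟩
  · have : h * s i * h⁻¹ = s i := by
      rw [← hπ h i]
      exact congrArg s (congrArg (fun σ => (σ : Equiv.Perm (Fin n)) i) hh)
    exact mul_inv_eq_iff_eq_mul.mp this
  · rintro _ ⟨h, rfl⟩ i j
    rw [hst, hst]
    show Commute (s (π h i)) (s (π h j)) ↔ _
    rw [hπ, hπ]
    exact Commute.conj_iff h

/-- Recognition by the commuting graph. -/
theorem iso_of_commutingGraph [Finite L] [Finite H] {d : ℕ} (t : Fin n → L)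
    (ht : Function.Injective t) (ht1 : ∀ i, t i ≠ 1)
    (htd : ∀ g : L, g ≠ 1 → (Nat.card (Subgroup.centralizer {g}) = d ↔ g ∈ Set.range t))
    (htriv : ∀ g : L, (∀ i, Commute g (t i)) → g = 1)
    (hcard : Nat.card (autGraph t) ≤ 2 * Nat.card L)
    (hsq : Subgroup.closure {g : L | ∃ x, x * x = g} = ⊤)
    (f : {h : H // h ≠ 1} ≃ {g : L // g ≠ 1})
    (hf : ∀ x y : {h : H // h ≠ 1}, (x : H) * y = y * x ↔ ((f x) : L) * (f y) = (f y) * (f x)) :
    Nonempty (H ≃* L) := by
  classical
  set F := extend f
  have hF := commute_extend f hf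
  -- both groups act faithfully on the graph
  obtain ⟨ρ, hρ, hρA⟩ := exists_conj_hom t t ht (fun h i => by
    refine (htd _ (fun he => ht1 i (conj_eq_one_iff.mp he))).mp ?_
    rw [card_centralizer_conj, (htd _ (ht1 i)).mpr ⟨i, rfl⟩]) (fun _ _ => Iff.rfl) htriv
  obtain ⟨θ, hθ, hθA⟩ := exists_conj_hom t (fun i => F.symm (t i)) (F.symm.injective.comp ht)
    (fun h i => by
      have hne : F (h * F.symm (t i) * h⁻¹) ≠ 1 := by
        rw [← extend_one f, F.injective.ne_iff]
        intro he
        exact ht1 i (by rw [← F.apply_symm_apply (t i), conj_eq_one_iff.mp he]; exact extend_one f)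
      obtain ⟨j, hj⟩ := (htd _ hne).mp (by
        rw [card_centralizer_eq hF, card_centralizer_conj, ← card_centralizer_eq hF,
          F.apply_symm_apply, (htd _ (ht1 i)).mpr ⟨i, rfl⟩])
      exact ⟨j, by show F.symm (t j) = _; rw [hj, F.symm_apply_apply]⟩)
    (fun i j => by rw [← hF (F.symm (t i)) (F.symm (t j)), F.apply_symm_apply, F.apply_symm_apply])
    (fun h hh => F.injective (by
      rw [show F 1 = 1 from extend_one f]
      exact htriv _ fun i => by rw [← F.apply_symm_apply (t i), hF]; exact hh i))
  -- compare the two images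
  have c₁ : Nat.card θ.range = Nat.card L := by
    rw [← Nat.card_congr (MonoidHom.ofInjective hθ).toEquiv, Nat.card_congr F]
  have c₂ : Nat.card ρ.range = Nat.card L :=
    (Nat.card_congr (MonoidHom.ofInjective hρ).toEquiv).symm
  have hrel : θ.range.relIndex (autGraph t) ≤ 2 := by
    have h1 : θ.range.relIndex (autGraph t) * Nat.card θ.range = Nat.card (autGraph t) := by
      rw [Subgroup.relIndex, ← Nat.card_congr (Subgroup.subgroupOfEquivOfLe hθA).toEquiv,
        Subgroup.index_mul_card]
    rw [c₁] at h1
    exact Nat.le_of_mul_le_mul_right (h1 ▸ hcard) Nat.card_pos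
  have hK : (θ.range.comap ρ).index ≤ 2 := by
    rw [Subgroup.index_comap]
    exact (Subgroup.relIndex_le_of_le_right hρA
      (by rw [Subgroup.relIndex]; exact Subgroup.index_ne_zero_of_finite)).trans hrel
  have htop : θ.range.comap ρ = ⊤ := by
    rw [eq_top_iff, ← hsq, Subgroup.closure_le]
    rintro _ ⟨x, rfl⟩
    have h0 : (θ.range.comap ρ).index ≠ 0 := Subgroup.index_ne_zero_of_finite
    rcases (show (θ.range.comap ρ).index = 1 ∨ (θ.range.comap ρ).index = 2 by omega) with h | h
    · rw [Subgroup.index_eq_one] at h; rw [h]; trivial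
    · exact Subgroup.mul_self_mem_of_index_two h x
  have hle : ρ.range ≤ θ.range := by
    rintro _ ⟨g, rfl⟩
    exact (show g ∈ θ.range.comap ρ from htop ▸ Subgroup.mem_top g)
  have heq : ρ.range = θ.range := Subgroup.eq_of_le_of_card_ge hle (by rw [c₁, c₂])
  exact ⟨(MonoidHom.ofInjective hθ).trans ((MulEquiv.subgroupCongr heq.symm).trans
    (MonoidHom.ofInjective hρ).symm)⟩

end CfsgLib.CommutingGraph
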