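import Cfsg.Agent.CommutingGraph.Table

/-! # Induction over a class certificate -/

namespace CfsgLib.CommutingGraph

variable {L : Type*} [Group L] {enc : L → ℕ} {mulC : ℕ → ℕ → ℕ} {commC : ℕ → ℕ → Bool}

/-- A conjugation invariant property true of the identity and of the listed representatives holds
of every element. -/
theorem class_induction (hinj : Function.Injective enc)
    (hmul : ∀ a b, enc (a * b) = mulC (enc a) (enc b)) {els : List ℕ}
    (hels : ∀ a, a ∈ els ↔ a ∈ Set.range enc) {gens : List (ℕ × ℕ)}
    (hgens : ∀ s ∈ gens, ∃ x : L, enc x = s.1 ∧ enc x⁻¹ = s.2) {reps : List ℕ} {dist : ℕ → ℕ}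
    {marked : ℕ → Bool} {d : ℕ}
    (hok : classifyOK mulC commC els gens reps dist marked d (enc 1) = true) (P : L → Prop)
    (hconj : ∀ x g : L, P (x * g * x⁻¹) → P g) (hone : P 1)
    (hrep : ∀ g, enc g ∈ reps → P g) (g : L) : P g := by
  induction hk : dist (enc g) using Nat.strong_induction_on generalizing g with
  | _ k ih =>
    simp only [classifyOK, List.all_eq_true] at hok
    have := hok (enc g) ((hels _).mpr ⟨g, rfl⟩)
    simp only [classifyStep, Bool.or_eq_true, Bool.and_eq_true, beq_iff_eq, List.any_eq_true,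
      decide_eq_true_eq, List.contains_iff_mem] at this
    rcases this with (h | ⟨h, -⟩) | ⟨s, hs, hlt, -⟩
    · rw [hinj h]; exact hone
    · exact hrep g h
    · obtain ⟨x, hx1, hx2⟩ := hgens s hs
      have he : enc (x * g * x⁻¹) = mulC (mulC s.1 (enc g)) s.2 := by rw [hmul, hmul, hx1, hx2]
      rw [← he] at hlt
      exact hconj x g (ih _ (hk ▸ hlt) _ rfl)

end CfsgLib.CommutingGraph
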