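import Mathlib
import Cfsg.Agent.CommutingGraph.Basic
import Cfsg.Agent.CommutingGraph.AutBound

/-! # Certificates on tables for the commuting graph of a finite group given by codes -/

namespace CfsgLib.CommutingGraph

open scoped commutatorElement

/-- Entry `i` of a table packed with `w` bits per entry. -/
def slot (data w i : ℕ) : ℕ := (data >>> (w * i)) % 2 ^ w

/-- The colour of a pair: common neighbours and adjacency. -/
def pairColour (row : ℕ → ℕ) (nbr : ℕ → ℕ → ℕ) (deg u v : ℕ) : ℕ :=
  2 * ((List.range deg).filter fun m => (row v).testBit (nbr u m)).length +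
    (if (row u).testBit v then 1 else 0)

theorem card_autGraph_le {L : Type*} [Group L] {n : ℕ} (t : Fin n → L) (row : ℕ → ℕ)
    (nbr : ℕ → ℕ → ℕ) (deg : ℕ)
    (hrow : ∀ i j : Fin n, (row i).testBit j = true ↔ Commute (t i) (t j))
    (hnbr : ∀ u < n, (List.range deg).map (nbr u) = (List.range n).filter fun k => (row u).testBit k)
    (steps : List (ℕ × ℕ × List ℕ))
    (hsteps : checkSteps n (pairColour row nbr deg) steps [] = true) :
    Nat.card (autGraph t) ≤ (steps.map fun s => s.2.1).prod := by
  classical
  refine card_le_of_checkSteps _ steps [] _ hsteps (fun σ hσ i j => ?_)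
    (fun _ _ _ h => absurd h List.not_mem_nil)
  have hM : ∀ a b : Fin n, (row (σ a)).testBit (σ b) = (row a).testBit b := fun a b => by
    rw [Bool.eq_iff_iff, hrow, hrow]; exact hσ a b
  have hcount : ∀ u v : Fin n,
      ((List.range deg).filter fun m => (row v).testBit (nbr u m)).length =
        (Finset.univ.filter fun k : Fin n => (row u).testBit k ∧ (row v).testBit k).card := by
    intro u v
    have h := congrArg (fun l : List ℕ => (l.filter fun k => (row v).testBit k).length) (hnbr u u.2)
    simp only [List.filter_map, List.length_map, List.filter_filter] at h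
    rw [show (fun m => (row v).testBit (nbr u m)) = ((fun k => (row v).testBit k) ∘ nbr u) from rfl,
      h, ← List.toFinset_card_of_nodup (List.nodup_range.filter _)]
    rw [← Finset.card_map Fin.valEmbedding]
    refine congrArg Finset.card ?_
    ext k
    simp only [List.mem_toFinset, List.mem_filter, List.mem_range, Bool.and_eq_true,
      Finset.mem_map, Finset.mem_filter, Finset.mem_univ, true_and, Fin.valEmbedding_apply]
    constructor
    · rintro ⟨hk, hkv, hku⟩; exact ⟨⟨k, hk⟩, ⟨hku, hkv⟩, rfl⟩
    · rintro ⟨k, ⟨hku, hkv⟩, rfl⟩; exact ⟨k.2, hkv, hku⟩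
  unfold pairColour
  rw [hcount, hcount, hM]
  congr 2
  refine (Finset.card_equiv σ fun k => ?_).symm
  simp [hM]

variable {L : Type*} [Group L] (enc : L → ℕ) (mulC : ℕ → ℕ → ℕ) (commC : ℕ → ℕ → Bool)

/-- Count of the codes commuting with `c`. -/
def centCount (els : List ℕ) (c : ℕ) : ℕ := (els.filter fun a => commC a c).length

theorem commute_iff_code (hinj : Function.Injective enc)
    (hmul : ∀ a b, enc (a * b) = mulC (enc a) (enc b)) (a b : L) :
    mulC (enc a) (enc b) = mulC (enc b) (enc a) ↔ Commute a b := by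
  rw [← hmul, ← hmul, hinj.eq_iff]; rfl

theorem card_eq_length [Finite L] (hinj : Function.Injective enc) {els : List ℕ} (hnd : els.Nodup)
    (hels : ∀ a, a ∈ els ↔ a ∈ Set.range enc) : Nat.card L = els.length := by
  classical
  rw [← List.toFinset_card_of_nodup hnd, ← Fintype.card_coe, ← Nat.card_eq_fintype_card]
  exact Nat.card_congr ((Equiv.ofInjective enc hinj).trans
    (Equiv.subtypeEquivRight fun a => by rw [List.mem_toFinset, hels]))

theorem card_centralizer_eq_centCount [Finite L] (hinj : Function.Injective enc)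
    (hcomm : ∀ a b : L, commC (enc a) (enc b) = true ↔ Commute a b) {els : List ℕ} (hnd : els.Nodup)
    (hels : ∀ a, a ∈ els ↔ a ∈ Set.range enc) (g : L) :
    Nat.card (Subgroup.centralizer {g}) = centCount commC els (enc g) := by
  classical
  rw [centCount, ← List.toFinset_card_of_nodup (hnd.filter _), ← Fintype.card_coe,
    ← Nat.card_eq_fintype_card]
  refine Nat.card_congr (Equiv.ofBijective (fun x => ⟨enc x.1, ?_⟩) ⟨?_, ?_⟩)
  · rw [List.mem_toFinset, List.mem_filter, hcomm]
    exact ⟨(hels _).mpr ⟨_, rfl⟩, Subgroup.mem_centralizer_singleton_iff.mp x.2⟩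
  · intro x y hxy
    exact Subtype.ext (hinj (congrArg Subtype.val hxy))
  · rintro ⟨a, ha⟩
    rw [List.mem_toFinset, List.mem_filter] at ha
    obtain ⟨x, rfl⟩ := (hels a).mp ha.1
    exact ⟨⟨x, Subgroup.mem_centralizer_singleton_iff.mpr
      ((hcomm x g).mp ha.2)⟩, rfl⟩

/-- One element: a representative with the right count, or a conjugate nearer to one. -/
def classifyStep (els : List ℕ) (gens : List (ℕ × ℕ)) (reps : List ℕ) (dist : ℕ → ℕ)
    (marked : ℕ → Bool) (d one a : ℕ) : Bool :=
  a == one || reps.contains a && (decide (centCount commC els a = d) == marked a) ||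
    gens.any fun s =>
      let b := mulC (mulC s.1 a) s.2
      decide (dist b < dist a) && (marked b == marked a)

/-- The class check on all elements. -/
def classifyOK (els : List ℕ) (gens : List (ℕ × ℕ)) (reps : List ℕ) (dist : ℕ → ℕ)
    (marked : ℕ → Bool) (d one : ℕ) : Bool :=
  els.all (classifyStep mulC commC els gens reps dist marked d one)

theorem classify [Finite L] (hinj : Function.Injective enc)
    (hmul : ∀ a b, enc (a * b) = mulC (enc a) (enc b))
    (hcomm : ∀ a b : L, commC (enc a) (enc b) = true ↔ Commute a b) {els : List ℕ} (hnd : els.Nodup)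
    (hels : ∀ a, a ∈ els ↔ a ∈ Set.range enc) {gens : List (ℕ × ℕ)}
    (hgens : ∀ s ∈ gens, ∃ x : L, enc x = s.1 ∧ enc x⁻¹ = s.2) {reps : List ℕ} {dist : ℕ → ℕ}
    {marked : ℕ → Bool} {d : ℕ}
    (hok : classifyOK mulC commC els gens reps dist marked d (enc 1) = true) (g : L) (hg : g ≠ 1) :
    Nat.card (Subgroup.centralizer {g}) = d ↔ marked (enc g) = true := by
  induction hk : dist (enc g) using Nat.strong_induction_on generalizing g with
  | _ k ih =>
    simp only [classifyOK, List.all_eq_true] at hok
    have := hok (enc g) ((hels _).mpr ⟨g, rfl⟩)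
    simp only [classifyStep, Bool.or_eq_true, Bool.and_eq_true, beq_iff_eq, List.any_eq_true,
      decide_eq_true_eq] at this
    rcases this with (h | ⟨-, h⟩) | ⟨s, hs, hlt, hm⟩
    · exact absurd (hinj h) hg
    · rw [card_centralizer_eq_centCount enc commC hinj hcomm hnd hels, ← h, decide_eq_true_eq]
    · obtain ⟨x, hx1, hx2⟩ := hgens s hs
      have he : enc (x * g * x⁻¹) = mulC (mulC s.1 (enc g)) s.2 := by rw [hmul, hmul, hx1, hx2]
      rw [← he] at hlt hm
      rw [← card_centralizer_conj x g, ← hm]
      exact ih _ (hk ▸ hlt) _ (fun h => hg (conj_eq_one_iff.mp h)) rfl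

/-- A group generated by a perfect set of squares: commutators are products of squares. -/
theorem closure_squares_eq_top (h : commutator L = ⊤) :
    Subgroup.closure {g : L | ∃ x, x * x = g} = ⊤ := by
  rw [eq_top_iff, ← h, commutator_eq_closure, Subgroup.closure_le]
  rintro _ ⟨x, y, rfl⟩
  have key : ∀ z : L, z * z ∈ Subgroup.closure {g : L | ∃ x, x * x = g} := fun z =>
    Subgroup.subset_closure ⟨z, rfl⟩
  have : ⁅x, y⁆ = x * x * ((x⁻¹ * y) * (x⁻¹ * y)) * (y⁻¹ * y⁻¹) := by
    rw [commutatorElement_def]; group
  rw [this]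
  exact mul_mem (mul_mem (key _) (key _)) (key _)

end CfsgLib.CommutingGraph
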